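import Mathlib
import Groth.Agent.RichLib.LimitBaseChange

/-! Morphisms of schemes of finite presentation over the stages descend. -/

set_option autoImplicit false

universe u

open CategoryTheory CategoryTheory.Limits AlgebraicGeometry RichLib.LimBC

noncomputable section

namespace DescFP

variable {I : Type u} [SmallCategory I] [IsCofiltered I] {D : I ⥤ Scheme.{u}} {c : Cone D} (hc : IsLimit c)
  [∀ (i j : I) (f : i ⟶ j), IsAffineHom (D.map f)] {i : I} {Xi Yi : Scheme.{u}} (xi : Xi ⟶ D.obj i) (yi : Yi ⟶ D.obj i)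
  [CompactSpace Xi] {X : Scheme.{u}} (qX : X ⟶ Xi) (pX : X ⟶ c.pt) (hX : IsPullback qX pX xi (c.π.app i))

include hc hX in
theorem hom_eq_eventually [LocallyOfFiniteType yi] (fi gi : Xi ⟶ Yi) (hfi : fi ≫ yi = xi) (hgi : gi ≫ yi = xi)
    (h : qX ≫ fi = qX ≫ gi) :
    ∃ (j : I) (φ : j ⟶ i), pullback.fst xi (D.map φ) ≫ fi = pullback.fst xi (D.map φ) ≫ gi := by
  let A := ofStage D c hc i
  let B := pb A xi
  haveI : ∀ {k l : Over i} (b : k ⟶ l), IsAffineHom (B.D.map b) := fun b => B.affine_map b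
  haveI := B.compactSpace_obj
  let o : Over i := Over.mk (𝟙 i)
  obtain ⟨φ, a, e⟩ := Scheme.exists_hom_comp_eq_comp_of_locallyOfFiniteType B.D
    { app := fun φ => pullback.fst xi (A.t φ) ≫ xi
      naturality := fun k l b => by
        show pbMap A xi b ≫ pullback.fst xi (A.t l) ≫ xi = (pullback.fst xi (A.t k) ≫ xi) ≫ 𝟙 _
        rw [pbMap_fst_assoc, Category.comp_id] }
    yi B.c B.hc (i := o) (pullback.fst xi (A.t o) ≫ fi) (pullback.fst xi (A.t o) ≫ gi)
    (((Category.assoc _ _ _).trans (congrArg (pullback.fst xi (A.t o) ≫ ·) hfi)).symm)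
    (((Category.assoc _ _ _).trans (congrArg (pullback.fst xi (A.t o) ≫ ·) hgi)).symm)
    (by
      show pbπ A xi o ≫ pullback.fst xi (A.t o) ≫ fi = pbπ A xi o ≫ pullback.fst xi (A.t o) ≫ gi
      rw [pbπ_fst_assoc, pbπ_fst_assoc]
      show pullback.fst xi (c.π.app i) ≫ fi = pullback.fst xi (c.π.app i) ≫ gi
      rw [← hX.isoPullback_inv_fst, Category.assoc, Category.assoc, h])
  refine ⟨φ.left, φ.hom, ?_⟩
  have e' : pbMap A xi a ≫ pullback.fst xi (A.t o) ≫ fi = pbMap A xi a ≫ pullback.fst xi (A.t o) ≫ gi := e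
  rw [pbMap_fst_assoc, pbMap_fst_assoc] at e'
  exact e'

variable [QuasiSeparatedSpace Xi] [LocallyOfFinitePresentation yi] {Y : Scheme.{u}} (qY : Y ⟶ Yi) (pY : Y ⟶ c.pt)
  (hY : IsPullback qY pY yi (c.π.app i)) (f : X ⟶ Y) (hf : f ≫ pY = pX)

include hc hX hY hf in
theorem exists_hom_descend :
    ∃ (j : I) (φ : j ⟶ i) (fj : pullback xi (D.map φ) ⟶ pullback yi (D.map φ))
      (sX : X ⟶ pullback xi (D.map φ)) (sY : Y ⟶ pullback yi (D.map φ)),
      fj ≫ pullback.snd yi (D.map φ) = pullback.snd xi (D.map φ) ∧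
      sX ≫ pullback.fst xi (D.map φ) = qX ∧ sX ≫ pullback.snd xi (D.map φ) = pX ≫ c.π.app j ∧
      sY ≫ pullback.fst yi (D.map φ) = qY ∧ sY ≫ pullback.snd yi (D.map φ) = pY ≫ c.π.app j ∧
      sX ≫ fj = f ≫ sY := by
  let A := ofStage D c hc i
  let B := pb A xi
  haveI : ∀ {k l : Over i} (b : k ⟶ l), IsAffineHom (B.D.map b) := fun b => B.affine_map b
  haveI := B.compactSpace_obj
  haveI := B.quasiSeparatedSpace_obj
  let e := hX.isoPullback
  obtain ⟨φ, γ, h1, h2⟩ := Scheme.exists_π_app_comp_eq_of_locallyOfFinitePresentation B.D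
    { app := fun φ => pullback.fst xi (A.t φ) ≫ xi
      naturality := fun k l b => by
        show pbMap A xi b ≫ pullback.fst xi (A.t l) ≫ xi = (pullback.fst xi (A.t k) ≫ xi) ≫ 𝟙 _
        rw [pbMap_fst_assoc, Category.comp_id] }
    yi B.c B.hc (e.inv ≫ f ≫ qY) (by
      ext φ
      show pbπ A xi φ ≫ pullback.fst xi (A.t φ) ≫ xi = (e.inv ≫ f ≫ qY) ≫ yi
      rw [pbπ_fst_assoc, Category.assoc, Category.assoc, hY.w, reassoc_of% hf, ← hX.w, hX.isoPullback_inv_fst_assoc]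
      rfl)
  obtain ⟨γ, h1, h2⟩ : ∃ γ : pullback xi (A.t φ) ⟶ Yi,
      pbπ A xi φ ≫ γ = e.inv ≫ f ≫ qY ∧ γ ≫ yi = pullback.fst xi (A.t φ) ≫ xi := ⟨γ, h1, h2⟩
  let sX : X ⟶ pullback xi (D.map φ.hom) := pullback.lift qX (pX ≫ c.π.app φ.left) (by rw [hX.w, Category.assoc, c.w])
  let sY : Y ⟶ pullback yi (D.map φ.hom) := pullback.lift qY (pY ≫ c.π.app φ.left) (by rw [hY.w, Category.assoc, c.w])
  let fj : pullback xi (D.map φ.hom) ⟶ pullback yi (D.map φ.hom) :=
    pullback.lift γ (pullback.snd xi (D.map φ.hom)) (h2.trans pullback.condition)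
  refine ⟨φ.left, φ.hom, fj, sX, sY, pullback.lift_snd _ _ _, pullback.lift_fst _ _ _, pullback.lift_snd _ _ _,
    pullback.lift_fst _ _ _, pullback.lift_snd _ _ _, ?_⟩
  have hs : sX = e.hom ≫ pbπ A xi φ := by
    refine pullback.hom_ext ?_ ?_
    · refine (pullback.lift_fst _ _ _).trans ?_
      exact (hX.isoPullback_hom_fst.symm.trans (congrArg (e.hom ≫ ·) (pbπ_fst A xi φ).symm)).trans (Category.assoc _ _ _).symm
    · refine (pullback.lift_snd _ _ _).trans ?_
      refine Eq.trans ?_ (Category.assoc _ _ _).symm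
      refine Eq.trans ?_ (congrArg (e.hom ≫ ·) (pbπ_snd A xi φ).symm)
      exact ((Category.assoc _ _ _).symm.trans (congrArg (· ≫ _) hX.isoPullback_hom_snd)).symm
  apply pullback.hom_ext
  · rw [Category.assoc, Category.assoc, pullback.lift_fst, pullback.lift_fst, hs]
    refine (Category.assoc _ _ _).trans ((congrArg (e.hom ≫ ·) h1).trans ?_)
    exact Iso.hom_inv_id_assoc _ _
  · rw [Category.assoc, Category.assoc, pullback.lift_snd, pullback.lift_snd, pullback.lift_snd, reassoc_of% hf]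

end DescFP
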