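import Groth.Agent.DescFP.Glue

/-! A morphism of finite presentation over an affine limit has a model at some stage. -/

set_option autoImplicit false

universe u

open CategoryTheory CategoryTheory.Limits AlgebraicGeometry Topology RichLib.LimBC

noncomputable section

namespace DescFP

variable {I : Type u} [SmallCategory I] [IsCofiltered I] {D : I ⥤ Scheme.{u}} {c : Cone D}

namespace Model

variable {X : Scheme.{u}} {f : X ⟶ c.pt} {i j : I}

/-- A model of an equal morphism. -/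
def congr (M : Model c f i) {f' : X ⟶ c.pt} (h : f = f') : Model c f' i :=
  ⟨M.Z, M.p, M.g, M.lfp, M.qc, M.qs, h ▸ M.sq⟩

theorem opensRange_pushMap {X' : Scheme.{u}} {f' : X' ⟶ c.pt} (M : Model c f i) (N : Model c f' i) (h : M.Z ⟶ N.Z)
    [IsOpenImmersion h] (hh : h ≫ N.p = M.p) (a : j ⟶ i) [IsOpenImmersion (M.pushMap N h hh a)] :
    (M.pushMap N h hh a).opensRange = N.pfst a ⁻¹ᵁ h.opensRange := by
  have e := (M.isPullback_pushMap N h hh a).isoPullback_hom_snd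
  rw [← Scheme.Hom.opensRange_pullbackSnd h (N.pfst a)]
  apply TopologicalSpace.Opens.ext
  rw [Scheme.Hom.coe_opensRange, Scheme.Hom.coe_opensRange, ← e, Scheme.Hom.comp_base, TopCat.coe_comp,
    Set.range_comp, (inferInstance : Surjective (M.isPullback_pushMap N h hh a).isoPullback.hom).1.range_eq,
    Set.image_univ]

theorem push_g_preimage (M : Model c f i) (a : j ⟶ i) (V : M.Z.Opens) :
    (M.push a).g ⁻¹ᵁ (M.pfst a ⁻¹ᵁ V) = M.g ⁻¹ᵁ V := by
  rw [← Scheme.Hom.comp_preimage, push_g_fst]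

theorem isAffineHom_pfst [∀ (i j : I) (f : i ⟶ j), IsAffineHom (D.map f)] (M : Model c f i) (a : j ⟶ i) :
    IsAffineHom (M.pfst a) :=
  MorphismProperty.of_isPullback (M.isPullback_pfst a).flip inferInstance

theorem isCompact_pfst_preimage [∀ (i j : I) (f : i ⟶ j), IsAffineHom (D.map f)] (M : Model c f i) (a : j ⟶ i)
    {V : M.Z.Opens} (hV : IsCompact (V : Set M.Z)) : IsCompact ((M.pfst a ⁻¹ᵁ V : (M.push a).Z.Opens) : Set (M.push a).Z) :=
  haveI := M.isAffineHom_pfst a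
  QuasiCompact.isCompact_preimage (f := M.pfst a) _ V.2 hV

end Model

variable (hc : IsLimit c) [∀ (i j : I) (f : i ⟶ j), IsAffineHom (D.map f)]
  [∀ i, CompactSpace (D.obj i)] [∀ i, QuasiSeparatedSpace (D.obj i)]

include hc in
theorem exists_glue_models {X U V : Scheme.{u}} {f : X ⟶ c.pt} (u : U ⟶ X) (v : V ⟶ X) [IsOpenImmersion u]
    [IsOpenImmersion v] (hcov : u.opensRange ⊔ v.opensRange = ⊤)
    (hcU : IsCompact ((u ⁻¹ᵁ v.opensRange : U.Opens) : Set U))
    (hcV : IsCompact ((v ⁻¹ᵁ u.opensRange : V.Opens) : Set V))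
    {i k : I} (M : Model c (u ≫ f) i) (N : Model c (v ≫ f) k) : ∃ j, Nonempty (Model c f j) := by
  obtain ⟨i₁, a₁, A, hA, hA'⟩ := exists_open hc M (u ⁻¹ᵁ v.opensRange) hcU
  obtain ⟨k₁, b₁, B, hB, hB'⟩ := exists_open hc N (v ⁻¹ᵁ u.opensRange) hcV
  obtain ⟨j, a₂, b₂, -⟩ := IsCofilteredOrEmpty.cone_objs i₁ k₁
  let M₂ := (M.push a₁).push a₂
  let N₂ := (N.push b₁).push b₂
  let A₂ : M₂.Z.Opens := (M.push a₁).pfst a₂ ⁻¹ᵁ A
  let B₂ : N₂.Z.Opens := (N.push b₁).pfst b₂ ⁻¹ᵁ B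
  have hA₂ : M₂.g ⁻¹ᵁ A₂ = u ⁻¹ᵁ v.opensRange := ((M.push a₁).push_g_preimage a₂ A).trans hA'
  have hB₂ : N₂.g ⁻¹ᵁ B₂ = v ⁻¹ᵁ u.opensRange := ((N.push b₁).push_g_preimage b₂ B).trans hB'
  have hcA₂ := (M.push a₁).isCompact_pfst_preimage a₂ hA
  have hcB₂ := (N.push b₁).isCompact_pfst_preimage b₂ hB
  let wU := pullback.fst u v
  let wV := pullback.snd u v
  have hwU : wU.opensRange = M₂.g ⁻¹ᵁ A₂ := (Scheme.Hom.opensRange_pullbackFst _ _).trans hA₂.symm
  have hwV : wV.opensRange = N₂.g ⁻¹ᵁ B₂ := (Scheme.Hom.opensRange_pullbackSnd _ _).trans hB₂.symm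
  let L := M₂.restrict A₂ hcA₂ wU hwU
  let L' := (N₂.restrict B₂ hcB₂ wV hwV).congr (f' := wU ≫ u ≫ f) (by rw [← Category.assoc, ← pullback.condition, Category.assoc])
  obtain ⟨j₁, c₁, γ, hγp, hγg⟩ := exists_hom hc L L'
  obtain ⟨j₂, c₂, hγ⟩ := exists_isIso hc (L.push c₁) (L'.push c₁) γ hγp hγg
  let M₃ := (M₂.push c₁).push c₂
  let N₃ := (N₂.push c₁).push c₂
  let a' := L.pushMap M₂ (M₂.rι A₂ hcA₂ wU hwU) (M₂.rι_p A₂ hcA₂ wU hwU) c₁
  let b' : (L'.push c₁).Z ⟶ (N₂.push c₁).Z := L'.pushMap N₂ (N₂.rι B₂ hcB₂ wV hwV) (N₂.rι_p B₂ hcB₂ wV hwV) c₁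
  haveI ha' : IsOpenImmersion a' := L.isOpenImmersion_pushMap _ _ _ _
  haveI hr : IsOpenImmersion (show L'.Z ⟶ N₂.Z from N₂.rι B₂ hcB₂ wV hwV) :=
    inferInstanceAs (IsOpenImmersion (N₂.rι B₂ hcB₂ wV hwV))
  haveI hb' : IsOpenImmersion b' :=
    MorphismProperty.of_isPullback (L'.isPullback_pushMap N₂ (N₂.rι B₂ hcB₂ wV hwV) (N₂.rι_p B₂ hcB₂ wV hwV) c₁) hr
  let a := (L.push c₁).pushMap (M₂.push c₁) a' (Model.pushMap_p ..) c₂
  let b₀ := (L'.push c₁).pushMap (N₂.push c₁) b' (Model.pushMap_p ..) c₂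
  let γ₂ := (L.push c₁).pushMap (L'.push c₁) γ hγp c₂
  haveI : IsOpenImmersion a := Model.isOpenImmersion_pushMap ..
  haveI : IsOpenImmersion b₀ := Model.isOpenImmersion_pushMap ..
  haveI : IsIso γ₂ := hγ
  refine ⟨j₂, exists_model_glue u v hcov (IsPullback.of_hasPullback u v) M₃ N₃ ((L.push c₁).push c₂) a (γ₂ ≫ b₀)
    (Model.pushMap_p ..) ((Category.assoc _ _ _).trans ((congrArg (γ₂ ≫ ·) (Model.pushMap_p ..)).trans (Model.pushMap_p ..))) ?_ ?_ ?_ ?_⟩
  · exact Model.g_pushMap _ _ _ _ _ wU rfl (Model.g_pushMap _ _ _ _ _ wU rfl (M₂.restrict_g_ι A₂ hcA₂ wU hwU))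
  · have h1 : ((L.push c₁).push c₂).g ≫ γ₂ = ((L'.push c₁).push c₂).g := by
      simpa using Model.g_pushMap (L.push c₁) (L'.push c₁) γ hγp c₂ (𝟙 _) (Category.id_comp _) (by simpa using hγg)
    refine (Category.assoc _ _ _).symm.trans ((congrArg (· ≫ b₀) h1).trans ?_)
    have he : wV ≫ v ≫ f = wU ≫ u ≫ f := by rw [← Category.assoc, ← pullback.condition, Category.assoc]
    exact Model.g_pushMap _ _ _ _ _ wV he (Model.g_pushMap L' N₂ _ _ _ wV he (N₂.restrict_g_ι B₂ hcB₂ wV hwV))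
  · rw [Model.opensRange_pushMap, Model.push_g_preimage, Model.opensRange_pushMap, Model.push_g_preimage,
      show (M₂.rι A₂ hcA₂ wU hwU).opensRange = A₂ from Scheme.Opens.opensRange_ι A₂]
    exact hA₂
  · have hbr : (γ₂ ≫ b₀).opensRange = b₀.opensRange := Scheme.Hom.opensRange_comp_of_isIso _ _
    rw [hbr, Model.opensRange_pushMap, Model.push_g_preimage]
    erw [Model.opensRange_pushMap, Model.push_g_preimage]
    exact (congrArg (N₂.g ⁻¹ᵁ ·) (Scheme.Opens.opensRange_ι B₂)).trans hB₂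

include hc in
/-- The affine piece. -/
theorem exists_model_affine {V : Scheme.{u}} [IsAffine V] (f : V ⟶ c.pt) [LocallyOfFinitePresentation f] {i : I}
    (W : (D.obj i).Opens) (hW : IsAffineOpen W) (hf : Set.range f ⊆ (c.π.app i ⁻¹ᵁ W : c.pt.Opens)) :
    ∃ j, Nonempty (Model c f j) := by
  haveI : IsAffine W.toScheme := hW
  let A := ofStage D c hc i
  let B := pb A W.ι
  haveI := B.affine_s
  haveI : IsAffine B.c.pt := isAffine_of_isAffineHom B.s
  let p2 : B.c.pt ⟶ c.pt := pullback.snd W.ι (c.π.app i)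
  haveI hp2 : IsOpenImmersion p2 := MorphismProperty.pullback_snd (P := @IsOpenImmersion) W.ι (c.π.app i) inferInstance
  have hr : Set.range f ⊆ Set.range p2 := by
    rintro _ ⟨z, rfl⟩
    obtain ⟨y, -, hy⟩ := Scheme.Pullback.exists_preimage_pullback (f := W.ι) (g := c.π.app i)
      (⟨(c.π.app i) (f z), hf ⟨z, rfl⟩⟩ : W.toScheme) (f z) rfl
    exact ⟨y, hy⟩
  let f' : V ⟶ B.c.pt := IsOpenImmersion.lift p2 f hr
  have hf' : f' ≫ p2 = f := IsOpenImmersion.lift_fac _ _ _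
  haveI : LocallyOfFinitePresentation f' := MorphismProperty.of_postcomp @LocallyOfFinitePresentation
    (W' := @IsOpenImmersion) f' p2 hp2 (hf'.symm ▸ ‹_›)
  let R := Γ(B.c.pt, ⊤)
  let S := Γ(V, ⊤)
  algebraize [f'.appTop.hom]
  haveI : Algebra.FinitePresentation R S :=
    (HasRingHomProperty.iff_of_isAffine (P := @LocallyOfFinitePresentation)).mp ‹LocallyOfFinitePresentation f'›
  let P := Algebra.Presentation.ofFinitePresentation R S
  haveI : Finite (P.coeffs : Set R) := P.finite_coeffs.to_subtype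
  obtain ⟨φ, hφ⟩ := exists_stage (ι := (P.coeffs : Set R))
    (fun r φ => (r : R) ∈ Set.range (B.c.π.app φ).appTop.hom)
    (fun r φ ψ a ⟨y, hy⟩ => ⟨(B.D.map a).appTop.hom y, by rw [← appTop_comp, B.c.w, hy]⟩)
    (fun r => by
      obtain ⟨φ, y, hy⟩ := exists_appTop_π_eq B (r : R)
      exact ⟨φ, y, hy⟩)
  haveI : IsAffine (B.D.obj φ) := B.isAffine_obj φ
  let R₀ := Γ(B.D.obj φ, ⊤)
  letI algR : Algebra R₀ R := (B.c.π.app φ).appTop.hom.toAlgebra
  letI algS : Algebra R₀ S := ((algebraMap R S).comp (algebraMap R₀ R)).toAlgebra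
  haveI : IsScalarTower R₀ R S := IsScalarTower.of_algebraMap_eq' rfl
  haveI : P.HasCoeffs R₀ := ⟨fun r hr => hφ ⟨r, hr⟩⟩
  let M₀ := P.ModelOfHasCoeffs R₀
  let e : TensorProduct R₀ R M₀ ≃ₐ[R] S := P.tensorModelOfHasCoeffsEquiv R₀
  let r : CommRingCat.of M₀ ⟶ S := CommRingCat.ofHom
    (e.toRingEquiv.toRingHom.comp (Algebra.TensorProduct.includeRight (R := R₀) (A := R) (B := M₀)).toRingHom)
  have hpo : IsPushout (B.c.π.app φ).appTop (CommRingCat.ofHom (algebraMap R₀ M₀)) f'.appTop r :=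
    (CommRingCat.isPushout_tensorProduct R₀ R M₀).of_iso (Iso.refl _) (Iso.refl _) (Iso.refl _)
      e.toRingEquiv.toCommRingCatIso (by rfl) (by rfl)
      (by ext x; exact e.commutes x) (by rfl)
  have hsq : IsPullback (V.isoSpec.hom ≫ Spec.map r) f'
      (Spec.map (CommRingCat.ofHom (algebraMap R₀ M₀)) ≫ (B.D.obj φ).isoSpec.inv) (B.c.π.app φ) := by
    refine (isPullback_SpecMap_of_isPushout _ _ _ _ hpo).flip.of_iso V.isoSpec.symm (Iso.refl _) B.c.pt.isoSpec.symm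
      (B.D.obj φ).isoSpec.symm (by simp) ?_ (by simp) ?_
    · simp [Scheme.isoSpec_inv_naturality]
    · simp [Scheme.isoSpec_inv_naturality]
  have hcone : IsPullback (B.c.π.app φ) (pullback.snd W.ι (c.π.app i)) (pullback.snd W.ι (D.map φ.hom))
      (c.π.app φ.left) := isPullback_cone A W.ι φ
  let p₀ : Spec (CommRingCat.of M₀) ⟶ B.D.obj φ :=
    Spec.map (CommRingCat.ofHom (algebraMap R₀ M₀)) ≫ (B.D.obj φ).isoSpec.inv
  haveI : IsOpenImmersion (pullback.snd W.ι (D.map φ.hom)) := inferInstance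
  haveI hlfp : LocallyOfFinitePresentation p₀ := by
    haveI : LocallyOfFinitePresentation (Spec.map (CommRingCat.ofHom (algebraMap R₀ M₀))) :=
      (HasRingHomProperty.Spec_iff (P := @LocallyOfFinitePresentation)).mpr
        (RingHom.finitePresentation_algebraMap.mpr (inferInstance : Algebra.FinitePresentation R₀ M₀))
    exact MorphismProperty.comp_mem _ _ _ this inferInstance
  exact ⟨φ.left, ⟨⟨Spec (CommRingCat.of M₀), p₀ ≫ pullback.snd W.ι (D.map φ.hom), V.isoSpec.hom ≫ Spec.map r,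
    MorphismProperty.comp_mem _ _ _ hlfp (inferInstanceAs (LocallyOfFinitePresentation (pullback.snd W.ι (D.map φ.hom)))),
    quasiCompact_of_compactSpace _, inferInstance,
    hf' ▸ hsq.paste_vert hcone⟩⟩⟩

include hc in
/-- A morphism of finite presentation over the limit has a model. -/
theorem exists_model {X : Scheme.{u}} (f : X ⟶ c.pt) [LocallyOfFinitePresentation f] [QuasiCompact f]
    [QuasiSeparated f] : ∃ j, Nonempty (Model c f j) := by
  classical
  obtain ⟨i₀⟩ := IsCofiltered.nonempty (C := I)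
  haveI := isAffineHom_π_app D c hc i₀
  haveI : CompactSpace c.pt := QuasiCompact.compactSpace_of_compactSpace (c.π.app i₀)
  haveI : QuasiSeparatedSpace c.pt := quasiSeparatedSpace_of_quasiSeparated (c.π.app i₀)
  haveI : CompactSpace X := QuasiCompact.compactSpace_of_compactSpace f
  haveI : QuasiSeparatedSpace X := quasiSeparatedSpace_of_quasiSeparated f
  have hx : ∀ x : X, ∃ (A : X.Opens), IsAffineOpen A ∧ x ∈ A ∧
      ∃ j, Nonempty (Model c (A.ι ≫ f) j) := fun x => by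
    obtain ⟨_, ⟨_, ⟨i, W, hW, rfl⟩, rfl⟩, hxW, -⟩ :=
      (isBasis_preimage_isAffineOpen D c hc).exists_subset_of_mem_open (Set.mem_univ (f x)) isOpen_univ
    obtain ⟨A, hA, hxA, hAW⟩ := exists_isAffineOpen_mem_and_subset (U := f ⁻¹ᵁ (c.π.app i ⁻¹ᵁ W)) (x := x) hxW
    haveI : IsAffine A.toScheme := hA
    exact ⟨A, hA, hxA, exists_model_affine hc (A.ι ≫ f) W hW (by
      rintro _ ⟨z, rfl⟩
      exact hAW z.2)⟩
  choose A hA hxA hAm using hx
  have key : ∀ s : Finset X, IsCompact ((s.sup A : X.Opens) : Set X) ∧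
      ∃ j, Nonempty (Model c ((s.sup A : X.Opens).ι ≫ f) j) := by
    intro s
    induction s using Finset.induction_on with
    | empty =>
      refine ⟨by simp, i₀, ?_⟩
      rw [Finset.sup_empty]
      haveI : IsEmpty (⊥ : X.Opens).toScheme := ⟨fun z => z.2⟩
      haveI : IsEmpty (⊥ : (D.obj i₀).Opens).toScheme := ⟨fun z => z.2⟩
      haveI : CompactSpace (⊥ : (D.obj i₀).Opens).toScheme := inferInstance
      let w := (⊥ : X.Opens).ι ≫ f
      haveI : IsOpenImmersion w := inferInstance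
      exact ⟨⟨(⊥ : (D.obj i₀).Opens).toScheme, (⊥ : (D.obj i₀).Opens).ι,
        IsOpenImmersion.lift (⊥ : (D.obj i₀).Opens).ι (w ≫ c.π.app i₀) (by rintro _ ⟨z, rfl⟩; exact isEmptyElim z),
        inferInstance, quasiCompact_of_compactSpace _, inferInstance,
        IsOpenImmersion.isPullback _ w _ _ (IsOpenImmersion.lift_fac _ _ _).symm (by
          ext z
          exact ⟨fun h => by rw [Scheme.Opens.opensRange_ι] at h; exact h.elim,
            fun ⟨y, _⟩ => isEmptyElim y⟩)⟩⟩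
    | insert x t _ ih =>
      rw [Finset.sup_insert]
      obtain ⟨hct, jt, ⟨N⟩⟩ := ih
      obtain ⟨jx, ⟨M⟩⟩ := hAm x
      refine ⟨by rw [TopologicalSpace.Opens.coe_sup]; exact (hA x).isCompact.union hct, ?_⟩
      let u := X.homOfLE (le_sup_left : A x ≤ A x ⊔ t.sup A)
      let v := X.homOfLE (le_sup_right : t.sup A ≤ A x ⊔ t.sup A)
      have hu : u.opensRange = (A x ⊔ t.sup A).ι ⁻¹ᵁ A x := Scheme.opensRange_homOfLE _
      have hv : v.opensRange = (A x ⊔ t.sup A).ι ⁻¹ᵁ t.sup A := Scheme.opensRange_homOfLE _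
      have hAt : IsCompact ((A x : Set X) ∩ (t.sup A : X.Opens)) :=
        QuasiSeparatedSpace.inter_isCompact _ _ (A x).2 (hA x).isCompact (t.sup A).2 hct
      refine exists_glue_models hc u v ?_ ?_ ?_
        (M.congr (show (A x).ι ≫ f = u ≫ (A x ⊔ t.sup A).ι ≫ f by rw [Scheme.homOfLE_ι_assoc]))
        (N.congr (show (t.sup A).ι ≫ f = v ≫ (A x ⊔ t.sup A).ι ≫ f by rw [Scheme.homOfLE_ι_assoc]))
      · rw [hu, hv, ← Scheme.Hom.preimage_sup]
        exact top_le_iff.mp fun z _ => z.2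
      · rw [hv, ← Scheme.Hom.comp_preimage, Scheme.homOfLE_ι]
        rw [(A x).ι.isEmbedding.isInducing.isCompact_iff, TopologicalSpace.Opens.map_coe,
          Set.image_preimage_eq_inter_range, Scheme.Opens.range_ι, Set.inter_comm]
        exact hAt
      · rw [hu, ← Scheme.Hom.comp_preimage, Scheme.homOfLE_ι]
        rw [(t.sup A : X.Opens).ι.isEmbedding.isInducing.isCompact_iff, TopologicalSpace.Opens.map_coe,
          Set.image_preimage_eq_inter_range, Scheme.Opens.range_ι]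
        exact hAt
  obtain ⟨s, hs⟩ := isCompact_univ.elim_finite_subcover (fun x => (A x : Set X)) (fun x => (A x).2)
    (fun x _ => Set.mem_iUnion.mpr ⟨x, hxA x⟩)
  obtain ⟨-, j, ⟨M⟩⟩ := key s
  have htop : (s.sup A : X.Opens) = ⊤ := top_le_iff.mp fun x _ => by
    obtain ⟨y, hy, hxy⟩ := Set.mem_iUnion₂.mp (hs (Set.mem_univ x))
    exact Finset.le_sup (f := A) hy hxy
  haveI : IsIso (s.sup A : X.Opens).ι := by rw [htop]; exact inferInstanceAs (IsIso (X.topIso).hom)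
  exact ⟨j, ⟨⟨M.Z, M.p, inv (s.sup A : X.Opens).ι ≫ M.g, M.lfp, M.qc, M.qs,
    M.sq.of_iso (asIso (s.sup A : X.Opens).ι) (Iso.refl _) (Iso.refl _) (Iso.refl _) (by simp) (by simp) (by simp) (by simp)⟩⟩⟩

end DescFP
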