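import Groth.Agent.DescFP.Model

/-! Gluing of two models along a model of the intersection. -/

set_option autoImplicit false

universe u

open CategoryTheory CategoryTheory.Limits AlgebraicGeometry Topology

noncomputable section

namespace DescFP

section Pushout

variable {W U V : Scheme.{u}} (a : W ⟶ U) (b : W ⟶ V) [IsOpenImmersion a] [IsOpenImmersion b]

instance isOpenImmersion_span_map : ∀ {i j : WalkingSpan} (f : i ⟶ j), IsOpenImmersion ((span a b).map f) := by
  rintro i j f
  rcases f with _ | ⟨_ | _⟩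
  · show IsOpenImmersion ((span a b).map (𝟙 i))
    rw [(span a b).map_id]; infer_instance
  · assumption
  · assumption

instance : IsOpenImmersion (pushout.inl a b) :=
  inferInstanceAs (IsOpenImmersion (colimit.ι (span a b) WalkingSpan.left))

instance : IsOpenImmersion (pushout.inr a b) :=
  inferInstanceAs (IsOpenImmersion (colimit.ι (span a b) WalkingSpan.right))

theorem exists_of_inl_eq_inr {x : U} {y : V} (h : pushout.inl a b x = pushout.inr a b y) :
    ∃ w, a w = x ∧ b w = y := by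
  obtain ⟨k, fi, fj, w, h1, h2⟩ := (Scheme.IsLocallyDirected.ι_eq_ι_iff (span a b)).mp h
  rcases k with _ | ⟨_ | _⟩
  · rcases fi with _ | _
    rcases fj with _ | _
    exact ⟨w, h1, h2⟩
  · nomatch fj
  · nomatch fi

theorem range_inl_union_range_inr :
    (pushout.inl a b).opensRange ⊔ (pushout.inr a b).opensRange = ⊤ := by
  refine top_le_iff.mp fun z _ => ?_
  obtain ⟨i, x, rfl⟩ := Scheme.IsLocallyDirected.ι_jointly_surjective (span a b) z
  rcases i with _ | ⟨_ | _⟩
  · left; refine ⟨a x, ?_⟩; rw [← colimit.w (span a b) (WalkingSpan.Hom.fst)]; rfl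
  · left; exact ⟨x, rfl⟩
  · right; exact ⟨x, rfl⟩

end Pushout

variable {I : Type u} [SmallCategory I] [IsCofiltered I] {D : I ⥤ Scheme.{u}} {c : Cone D}
  {X : Scheme.{u}} {f : X ⟶ c.pt} {i : I}

/-- The open cover of a scheme by two open immersions. -/
def cover2 {U V P : Scheme.{u}} (p : U ⟶ P) (q : V ⟶ P) [IsOpenImmersion p] [IsOpenImmersion q]
    (h : p.opensRange ⊔ q.opensRange = ⊤) : P.OpenCover :=
  Scheme.Cover.mkOfCovers (ULift.{u} Bool) (fun k => bif k.down then U else V)
    (fun k => match k with | ⟨true⟩ => p | ⟨false⟩ => q)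
    (fun x => by
      have hx : x ∈ p.opensRange ⊔ q.opensRange := h ▸ trivial
      rcases hx with ⟨y, rfl⟩ | ⟨y, rfl⟩
      · exact ⟨⟨true⟩, y, rfl⟩
      · exact ⟨⟨false⟩, y, rfl⟩)
    (fun k => match k with | ⟨true⟩ => ‹_› | ⟨false⟩ => ‹_›)

/-- Gluing two morphisms. -/
theorem exists_glue {W U V Y : Scheme.{u}} {a : W ⟶ U} {b : W ⟶ V} (u : U ⟶ X) (v : V ⟶ X)
    [IsOpenImmersion u] [IsOpenImmersion v] (h : u.opensRange ⊔ v.opensRange = ⊤) (sq : IsPullback a b u v)
    (φ : U ⟶ Y) (ψ : V ⟶ Y) (hab : a ≫ φ = b ≫ ψ) : ∃ g : X ⟶ Y, u ≫ g = φ ∧ v ≫ g = ψ := by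
  let φ' : ∀ k, (cover2 u v h).X k ⟶ Y := fun k => match k with | ⟨true⟩ => φ | ⟨false⟩ => ψ
  have key : pullback.fst u v ≫ φ = pullback.snd u v ≫ ψ := by
    rw [← cancel_epi sq.isoPullback.hom, sq.isoPullback_hom_fst_assoc, sq.isoPullback_hom_snd_assoc, hab]
  have hs : ∀ x y, pullback.fst ((cover2 u v h).f x) ((cover2 u v h).f y) ≫ φ' x =
      pullback.snd _ _ ≫ φ' y := by
    rintro ⟨_ | _⟩ ⟨_ | _⟩
    · show pullback.fst v v ≫ ψ = pullback.snd v v ≫ ψ
      rw [(cancel_mono v).mp pullback.condition]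
    · show pullback.fst v u ≫ ψ = pullback.snd v u ≫ φ
      rw [← cancel_epi (pullbackSymmetry u v).hom, pullbackSymmetry_hom_comp_fst_assoc,
        pullbackSymmetry_hom_comp_snd_assoc, key]
    · exact key
    · show pullback.fst u u ≫ φ = pullback.snd u u ≫ φ
      rw [(cancel_mono u).mp pullback.condition]
  exact ⟨(cover2 u v h).glueMorphisms φ' hs, (cover2 u v h).ι_glueMorphisms φ' hs ⟨true⟩,
    (cover2 u v h).ι_glueMorphisms φ' hs ⟨false⟩⟩

theorem quasiSeparatedSpace_of_two {P : Scheme.{u}} (A B : P.Opens) (h : A ⊔ B = ⊤) (hA : IsCompact (A : Set P))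
    (hB : IsCompact (B : Set P)) (hAB : IsCompact ((A : Set P) ∩ B)) (hA' : IsQuasiSeparated (A : Set P))
    (hB' : IsQuasiSeparated (B : Set P)) : QuasiSeparatedSpace P := by
  have key : ∀ A B : P.Opens, A ⊔ B = ⊤ → IsCompact ((A : Set P) ∩ B) → IsQuasiSeparated (B : Set P) →
      IsRetrocompact (A : Set P) := by
    intro A B h hAB hB'
    haveI : QuasiSeparatedSpace B.toScheme := (isQuasiSeparated_iff_quasiSeparatedSpace _ B.2).mp hB'
    have : QuasiCompact A.ι := by
      refine IsZariskiLocalAtTarget.of_iSup_eq_top (fun k : Bool => bif k then A else B)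
        (by rw [iSup_bool_eq]; exact h) ?_
      rintro (_ | _)
      · show QuasiCompact (A.ι ∣_ B)
        haveI : CompactSpace (A.ι ⁻¹ᵁ B).toScheme := isCompact_iff_compactSpace.mp (by
          rw [A.ι.isEmbedding.isInducing.isCompact_iff]
          convert! hAB using 1
          ext z
          constructor
          · rintro ⟨y, hy, rfl⟩; exact ⟨y.2, hy⟩
          · rintro ⟨h1, h2⟩; exact ⟨⟨z, h1⟩, h2, rfl⟩)
        exact quasiCompact_of_compactSpace _
      · show QuasiCompact (A.ι ∣_ A)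
        haveI : Surjective (A.ι ∣_ A) := ⟨fun y => ⟨⟨⟨y.1, y.2⟩, y.2⟩, Subtype.ext (by simp [morphismRestrict_base])⟩⟩
        haveI : IsIso (A.ι ∣_ A) := (isIso_iff_isOpenImmersion_and_surjective _).mpr ⟨inferInstance, inferInstance⟩
        infer_instance
    have h' := IsRetrocompact_iff_isSpectralMap_subtypeVal.mpr (quasiCompact_iff_isSpectralMap.mp this)
    exact h'
  refine QuasiSeparatedSpace.of_isOpenCover (U := fun k : Bool => bif k then A else B)
    (by rw [TopologicalSpace.IsOpenCover, iSup_bool_eq]; exact h) ?_ ?_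
  · rintro (_ | _)
    · exact key B A ((sup_comm _ _).trans h) (by rwa [Set.inter_comm]) hA'
    · exact key A B h hAB hB'
  · rintro (_ | _)
    · exact hB'
    · exact hA'

theorem isPullback_piece {U P T : Scheme.{u}} {u : U ⟶ X} {gU : U ⟶ P} {ι : P ⟶ T} {g : X ⟶ T}
    {p : T ⟶ D.obj i} {pU : P ⟶ D.obj i} {fU : U ⟶ c.pt} (hf : u ≫ f = fU) (hp : ι ≫ p = pU)
    (h : IsPullback gU fU pU (c.π.app i)) (sq : IsPullback gU u ι g) :
    IsPullback (pullback.snd g ι) (pullback.fst g ι ≫ f) (ι ≫ p) (c.π.app i) := by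
  subst hf hp
  exact h.of_iso sq.flip.isoPullback (Iso.refl _) (Iso.refl _) (Iso.refl _) (by simp) (by simp) (by simp) (by simp)

/-- Two models with compatible open immersions of a model of the intersection glue. -/
theorem exists_model_glue [CompactSpace (D.obj i)] [QuasiSeparatedSpace (D.obj i)] {W U V : Scheme.{u}}
    {wU : W ⟶ U} {wV : W ⟶ V} (u : U ⟶ X) (v : V ⟶ X) [IsOpenImmersion u] [IsOpenImmersion v]
    (hcov : u.opensRange ⊔ v.opensRange = ⊤) (sq : IsPullback wU wV u v) {w : W ⟶ c.pt}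
    (M : Model c (u ≫ f) i) (N : Model c (v ≫ f) i) (L : Model c w i)
    (a : L.Z ⟶ M.Z) (b : L.Z ⟶ N.Z) [IsOpenImmersion a] [IsOpenImmersion b]
    (hpa : a ≫ M.p = L.p) (hpb : b ≫ N.p = L.p) (hga : L.g ≫ a = wU ≫ M.g) (hgb : L.g ≫ b = wV ≫ N.g)
    (hra : M.g ⁻¹ᵁ a.opensRange = u ⁻¹ᵁ v.opensRange) (hrb : N.g ⁻¹ᵁ b.opensRange = v ⁻¹ᵁ u.opensRange) :
    Nonempty (Model c f i) := by
  let inl := pushout.inl a b
  let inr := pushout.inr a b
  let p : pushout a b ⟶ D.obj i := pushout.desc M.p N.p (hpa.trans hpb.symm)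
  have hl : inl ≫ p = M.p := pushout.inl_desc _ _ _
  have hr : inr ≫ p = N.p := pushout.inr_desc _ _ _
  obtain ⟨g, hgu, hgv⟩ := exists_glue u v hcov sq (M.g ≫ inl) (N.g ≫ inr)
    (by rw [← Category.assoc, ← hga, ← Category.assoc wV, ← hgb, Category.assoc, Category.assoc, pushout.condition])
  let 𝒰 := cover2 inl inr (range_inl_union_range_inr a b)
  have hlfp : LocallyOfFinitePresentation p := by
    refine IsZariskiLocalAtSource.of_openCover 𝒰 ?_
    rintro ⟨_ | _⟩
    · show LocallyOfFinitePresentation (inr ≫ p); rw [hr]; exact N.lfp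
    · show LocallyOfFinitePresentation (inl ≫ p); rw [hl]; exact M.lfp
  haveI := M.compactSpace
  haveI := N.compactSpace
  haveI := L.compactSpace
  haveI := M.quasiSeparatedSpace
  haveI := N.quasiSeparatedSpace
  haveI : CompactSpace (pushout a b : Scheme.{u}) := by
    rw [← isCompact_univ_iff, ← TopologicalSpace.Opens.coe_top, ← range_inl_union_range_inr a b,
      TopologicalSpace.Opens.coe_sup]
    exact (isCompact_range inl.continuous).union (isCompact_range inr.continuous)
  have hqs : QuasiSeparatedSpace (pushout a b : Scheme.{u}) := by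
    have hii : ((inl.opensRange : Set (pushout a b : Scheme.{u})) ∩ inr.opensRange) = Set.range (a ≫ inl) := by
      ext z
      constructor
      · rintro ⟨⟨x, rfl⟩, y, hy⟩
        obtain ⟨w, rfl, -⟩ := exists_of_inl_eq_inr a b hy.symm
        exact ⟨w, rfl⟩
      · rintro ⟨w, rfl⟩
        exact ⟨⟨a w, rfl⟩, ⟨b w, by rw [← Scheme.Hom.comp_apply, ← pushout.condition]⟩⟩
    have hc' : IsCompact ((inl.opensRange : Set (pushout a b : Scheme.{u})) ∩ inr.opensRange) := by
      rw [hii]; exact isCompact_range (a ≫ inl).continuous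
    exact quasiSeparatedSpace_of_two inl.opensRange inr.opensRange (range_inl_union_range_inr a b)
      (isCompact_range inl.continuous) (isCompact_range inr.continuous) hc'
      (by simpa using (isQuasiSeparated_univ (α := M.Z)).image_of_isEmbedding inl.isEmbedding)
      (by simpa using (isQuasiSeparated_univ (α := N.Z)).image_of_isEmbedding inr.isEmbedding)
  refine ⟨⟨pushout a b, p, g, hlfp, quasiCompact_of_compactSpace p, inferInstance, ?_⟩⟩
  refine Scheme.isPullback_of_openCover g f p (c.π.app i) 𝒰 ?_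
  have hpre : g ⁻¹ᵁ inl.opensRange = u.opensRange ∧ g ⁻¹ᵁ inr.opensRange = v.opensRange := by
    constructor
    · ext x
      constructor
      · rintro ⟨m, hm⟩
        have hx : x ∈ u.opensRange ⊔ v.opensRange := hcov ▸ trivial
        rcases hx with hx | ⟨y, rfl⟩
        · exact hx
        · have e : g (v y) = inr (N.g y) := by rw [← Scheme.Hom.comp_apply, hgv]; rfl
          obtain ⟨w, -, hw⟩ := exists_of_inl_eq_inr a b (hm.trans e)
          exact hrb.le ⟨w, hw⟩
      · rintro ⟨y, rfl⟩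
        exact ⟨M.g y, by rw [← Scheme.Hom.comp_apply, ← Scheme.Hom.comp_apply, hgu]⟩
    · ext x
      constructor
      · rintro ⟨m, hm⟩
        have hx : x ∈ u.opensRange ⊔ v.opensRange := hcov ▸ trivial
        rcases hx with ⟨y, rfl⟩ | hx
        · have e : g (u y) = inl (M.g y) := by rw [← Scheme.Hom.comp_apply, hgu]; rfl
          obtain ⟨w, hw, -⟩ := exists_of_inl_eq_inr a b (e.symm.trans hm.symm)
          exact hra.le ⟨w, hw⟩
        · exact hx
      · rintro ⟨y, rfl⟩
        exact ⟨N.g y, by rw [← Scheme.Hom.comp_apply, ← Scheme.Hom.comp_apply, hgv]⟩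
  rintro ⟨_ | _⟩
  · exact isPullback_piece rfl hr N.sq
      (IsOpenImmersion.isPullback N.g v inr g hgv hpre.2)
  · exact isPullback_piece rfl hl M.sq
      (IsOpenImmersion.isPullback M.g u inl g hgu hpre.1)

end DescFP
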