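import Mathlib
import Groth.Agent.RichLib.LimitDescentProps
import Groth.Agent.S12442

/-! Models at the stages of an affine limit of a morphism of finite presentation over the limit. -/

set_option autoImplicit false

universe u

open CategoryTheory CategoryTheory.Limits AlgebraicGeometry Topology RichLib.LimBC

noncomputable section

namespace DescFP

variable {I : Type u} [SmallCategory I] [IsCofiltered I] {D : I ⥤ Scheme.{u}}

/-- A model of `f` at the stage `i`. -/
structure Model (c : Cone D) {X : Scheme.{u}} (f : X ⟶ c.pt) (i : I) where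
  /-- the scheme -/
  Z : Scheme.{u}
  /-- the structure map -/
  p : Z ⟶ D.obj i
  /-- the projection -/
  g : X ⟶ Z
  lfp : LocallyOfFinitePresentation p
  qc : QuasiCompact p
  qs : QuasiSeparated p
  sq : IsPullback g f p (c.π.app i)

variable {c : Cone D} {X : Scheme.{u}} {f : X ⟶ c.pt} {i j : I}

namespace Model

theorem compactSpace (M : Model c f i) [CompactSpace (D.obj i)] : CompactSpace M.Z :=
  haveI := M.qc; QuasiCompact.compactSpace_of_compactSpace M.p

theorem quasiSeparatedSpace (M : Model c f i) [QuasiSeparatedSpace (D.obj i)] : QuasiSeparatedSpace M.Z :=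
  haveI := M.qs; quasiSeparatedSpace_of_quasiSeparated M.p

/-- The model at a later stage. -/
def push (M : Model c f i) (a : j ⟶ i) : Model c f j where
  Z := pullback M.p (D.map a)
  p := pullback.snd M.p (D.map a)
  g := pullback.lift M.g (f ≫ c.π.app j) (by rw [M.sq.w, Category.assoc, c.w])
  lfp := MorphismProperty.pullback_snd _ _ M.lfp
  qc := MorphismProperty.pullback_snd _ _ M.qc
  qs := MorphismProperty.pullback_snd _ _ M.qs
  sq := IsPullback.of_right (by rw [pullback.lift_fst, c.w]; exact M.sq) (pullback.lift_snd _ _ _)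
    (IsPullback.of_hasPullback M.p (D.map a))

/-- The projection of the model at a later stage. -/
def pfst (M : Model c f i) (a : j ⟶ i) : (M.push a).Z ⟶ M.Z :=
  pullback.fst M.p (D.map a)

theorem push_g_fst (M : Model c f i) (a : j ⟶ i) : (M.push a).g ≫ M.pfst a = M.g :=
  pullback.lift_fst _ _ _

theorem pfst_p (M : Model c f i) (a : j ⟶ i) : M.pfst a ≫ M.p = (M.push a).p ≫ D.map a :=
  pullback.condition

theorem isPullback_pfst (M : Model c f i) (a : j ⟶ i) : IsPullback (M.pfst a) (M.push a).p M.p (D.map a) :=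
  IsPullback.of_hasPullback _ _

theorem push_hom_ext (M : Model c f i) (a : j ⟶ i) {T : Scheme.{u}} {x y : T ⟶ (M.push a).Z}
    (h₁ : x ≫ M.pfst a = y ≫ M.pfst a) (h₂ : x ≫ (M.push a).p = y ≫ (M.push a).p) : x = y :=
  (M.isPullback_pfst a).hom_ext h₁ h₂

variable {X' : Scheme.{u}} {f' : X' ⟶ c.pt}

/-- A morphism of models at a later stage. -/
def pushMap (M : Model c f i) (N : Model c f' i) (h : M.Z ⟶ N.Z) (hh : h ≫ N.p = M.p) (a : j ⟶ i) :
    (M.push a).Z ⟶ (N.push a).Z :=
  (N.isPullback_pfst a).lift (M.pfst a ≫ h) (M.push a).p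
    (by rw [Category.assoc, hh, pfst_p])

variable (M : Model c f i) (N : Model c f' i) (h : M.Z ⟶ N.Z) (hh : h ≫ N.p = M.p) (a : j ⟶ i)

theorem pushMap_p : M.pushMap N h hh a ≫ (N.push a).p = (M.push a).p := IsPullback.lift_snd _ _ _ _

theorem pushMap_fst : M.pushMap N h hh a ≫ N.pfst a = M.pfst a ≫ h :=
  IsPullback.lift_fst _ _ _ _

theorem g_pushMap (u : X ⟶ X') (hu : u ≫ f' = f) (hg : M.g ≫ h = u ≫ N.g) :
    (M.push a).g ≫ M.pushMap N h hh a = u ≫ (N.push a).g := by
  apply N.push_hom_ext a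
  · rw [Category.assoc, Category.assoc, pushMap_fst, ← Category.assoc, push_g_fst, push_g_fst, hg]
  · rw [Category.assoc, pushMap_p, (M.push a).sq.w, Category.assoc, (N.push a).sq.w, reassoc_of% hu]

theorem isPullback_pushMap :
    IsPullback (M.pfst a) (M.pushMap N h hh a) h (N.pfst a) := by
  refine IsPullback.of_bot ?_ (M.pushMap_fst N h hh a).symm (N.isPullback_pfst a)
  rw [pushMap_p, hh]
  exact M.isPullback_pfst a

theorem isOpenImmersion_pushMap [IsOpenImmersion h] : IsOpenImmersion (M.pushMap N h hh a) :=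
  MorphismProperty.of_isPullback (M.isPullback_pushMap N h hh a) ‹_›

theorem range_subset_of_opensRange (V : M.Z.Opens) {W : Scheme.{u}}
    (w : W ⟶ X) [IsOpenImmersion w] (hw : w.opensRange = M.g ⁻¹ᵁ V) :
    Set.range (w ≫ M.g) ⊆ Set.range V.ι := by
  rw [Scheme.Opens.range_ι]
  rintro _ ⟨z, rfl⟩
  exact hw.le ⟨z, rfl⟩

theorem isPullback_restrict (V : M.Z.Opens) {W : Scheme.{u}}
    (w : W ⟶ X) [IsOpenImmersion w] (hw : w.opensRange = M.g ⁻¹ᵁ V) :
    IsPullback (IsOpenImmersion.lift V.ι (w ≫ M.g) (M.range_subset_of_opensRange V w hw)) (w ≫ f)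
      (V.ι ≫ M.p) (c.π.app i) :=
  (IsOpenImmersion.isPullback _ w V.ι M.g (IsOpenImmersion.lift_fac _ _ _).symm
    (by rw [Scheme.Opens.opensRange_ι]; exact hw.symm)).paste_vert M.sq

/-- A compact open of the model gives a model of its preimage. -/
def restrict [QuasiSeparatedSpace (D.obj i)] (V : M.Z.Opens) (hV : IsCompact (V : Set M.Z)) {W : Scheme.{u}}
    (w : W ⟶ X) [IsOpenImmersion w] (hw : w.opensRange = M.g ⁻¹ᵁ V) : Model c (w ≫ f) i where
  Z := V.toScheme
  p := V.ι ≫ M.p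
  g := IsOpenImmersion.lift V.ι (w ≫ M.g) (M.range_subset_of_opensRange V w hw)
  lfp := by haveI := M.lfp; infer_instance
  qc :=
    haveI : CompactSpace V.toScheme := isCompact_iff_compactSpace.mp hV
    quasiCompact_of_compactSpace _
  qs := by haveI := M.qs; infer_instance
  sq := M.isPullback_restrict V w hw

/-- The inclusion of the restricted model. -/
def rι [QuasiSeparatedSpace (D.obj i)] (V : M.Z.Opens) (hV : IsCompact (V : Set M.Z)) {W : Scheme.{u}}
    (w : W ⟶ X) [IsOpenImmersion w] (hw : w.opensRange = M.g ⁻¹ᵁ V) : (M.restrict V hV w hw).Z ⟶ M.Z :=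
  V.ι

instance [QuasiSeparatedSpace (D.obj i)] (V : M.Z.Opens) (hV : IsCompact (V : Set M.Z)) {W : Scheme.{u}}
    (w : W ⟶ X) [IsOpenImmersion w] (hw : w.opensRange = M.g ⁻¹ᵁ V) : IsOpenImmersion (M.rι V hV w hw) :=
  inferInstanceAs (IsOpenImmersion V.ι)

theorem rι_p [QuasiSeparatedSpace (D.obj i)] (V : M.Z.Opens) (hV : IsCompact (V : Set M.Z)) {W : Scheme.{u}}
    (w : W ⟶ X) [IsOpenImmersion w] (hw : w.opensRange = M.g ⁻¹ᵁ V) :
    M.rι V hV w hw ≫ M.p = (M.restrict V hV w hw).p := rfl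

theorem restrict_g_ι [QuasiSeparatedSpace (D.obj i)] (V : M.Z.Opens) (hV : IsCompact (V : Set M.Z)) {W : Scheme.{u}}
    (w : W ⟶ X) [IsOpenImmersion w] (hw : w.opensRange = M.g ⁻¹ᵁ V) :
    (M.restrict V hV w hw).g ≫ M.rι V hV w hw = w ≫ M.g :=
  IsOpenImmersion.lift_fac V.ι (w ≫ M.g) (M.range_subset_of_opensRange V w hw)

end Model

variable (hc : IsLimit c) [∀ (i j : I) (f : i ⟶ j), IsAffineHom (D.map f)]

theorem push_g_eq (M : Model c f i) (φ : Over i) :
    (M.push φ.hom).g = M.sq.isoPullback.hom ≫ pbπ (ofStage D c hc i) M.p φ := by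
  refine M.push_hom_ext φ.hom ?_ ?_
  · refine ((M.push_g_fst _).trans M.sq.isoPullback_hom_fst.symm).trans ?_
    exact (congrArg (_ ≫ ·) (pbπ_fst (ofStage D c hc i) M.p φ).symm).trans (Category.assoc _ _ _).symm
  · refine (M.push φ.hom).sq.w.trans ?_
    refine Eq.trans ?_ (Category.assoc _ _ _).symm
    refine Eq.trans ?_ (congrArg (_ ≫ ·) (pbπ_snd (ofStage D c hc i) M.p φ).symm)
    exact ((Category.assoc _ _ _).symm.trans (congrArg (· ≫ _) M.sq.isoPullback_hom_snd)).symm

variable [∀ i, CompactSpace (D.obj i)] [∀ i, QuasiSeparatedSpace (D.obj i)]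

include hc in
/-- A compact open of the source comes from a later stage. -/
theorem exists_open (M : Model c f i) (W : X.Opens) (hW : IsCompact (W : Set X)) :
    ∃ (j : I) (a : j ⟶ i) (V : (M.push a).Z.Opens), IsCompact (V : Set (M.push a).Z) ∧ (M.push a).g ⁻¹ᵁ V = W := by
  haveI := M.compactSpace
  let B := pb (ofStage D c hc i) M.p
  haveI : ∀ {k l : Over i} (b : k ⟶ l), IsAffineHom (B.D.map b) := fun b => B.affine_map b
  let e := M.sq.isoPullback
  obtain ⟨φ, V, hV, hVW⟩ := exists_preimage_eq B.D B.c B.hc (e.inv ⁻¹ᵁ W)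
    (e.inv.homeomorph.isCompact_preimage.mpr hW)
  refine ⟨φ.left, φ.hom, V, hV, ?_⟩
  rw [push_g_eq hc M φ]
  show e.hom ⁻¹ᵁ ((B.c.π.app φ : B.c.pt ⟶ _) ⁻¹ᵁ V) = W
  refine (congrArg (fun U => e.hom ⁻¹ᵁ U) hVW).trans ?_
  exact (Scheme.Hom.comp_preimage e.hom e.inv W).symm.trans (by rw [Iso.hom_inv_id, Scheme.Hom.id_preimage])

include hc in
/-- A morphism of models of the same morphism exists at a later stage. -/
theorem exists_hom (M N : Model c f i) :
    ∃ (j : I) (a : j ⟶ i) (γ : (M.push a).Z ⟶ (N.push a).Z),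
      γ ≫ (N.push a).p = (M.push a).p ∧ (M.push a).g ≫ γ = (N.push a).g := by
  haveI := M.compactSpace
  haveI := M.quasiSeparatedSpace
  haveI := N.lfp
  let A := ofStage D c hc i
  let B := pb A M.p
  haveI : ∀ {k l : Over i} (b : k ⟶ l), IsAffineHom (B.D.map b) := fun b => B.affine_map b
  haveI := B.compactSpace_obj
  haveI := B.quasiSeparatedSpace_obj
  let e := M.sq.isoPullback
  obtain ⟨φ, γ₀, h1, h2⟩ := Scheme.exists_π_app_comp_eq_of_locallyOfFinitePresentation B.D
    { app := fun φ => pullback.fst M.p (A.t φ) ≫ M.p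
      naturality := fun k l b => by
        show pbMap A M.p b ≫ pullback.fst M.p (A.t l) ≫ M.p = (pullback.fst M.p (A.t k) ≫ M.p) ≫ 𝟙 _
        rw [pbMap_fst_assoc, Category.comp_id] }
    N.p B.c B.hc (e.inv ≫ N.g) (by
      ext φ
      show pbπ A M.p φ ≫ pullback.fst M.p (A.t φ) ≫ M.p = (e.inv ≫ N.g) ≫ N.p
      rw [pbπ_fst_assoc, Category.assoc, N.sq.w, ← M.sq.w, ← Category.assoc e.inv, M.sq.isoPullback_inv_fst]
      rfl)
  obtain ⟨γ₀, h1, h2⟩ : ∃ γ : pullback M.p (A.t φ) ⟶ N.Z,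
      pbπ A M.p φ ≫ γ = e.inv ≫ N.g ∧ γ ≫ N.p = pullback.fst M.p (A.t φ) ≫ M.p := ⟨γ₀, h1, h2⟩
  let γ : (M.push φ.hom).Z ⟶ (N.push φ.hom).Z :=
    pullback.lift γ₀ (pullback.snd M.p (D.map φ.hom)) (h2.trans pullback.condition)
  have hγp : γ ≫ (N.push φ.hom).p = (M.push φ.hom).p := pullback.lift_snd _ _ _
  refine ⟨φ.left, φ.hom, γ, hγp, ?_⟩
  refine N.push_hom_ext φ.hom ?_ ?_
  · rw [Model.push_g_fst, Category.assoc, show γ ≫ N.pfst φ.hom = γ₀ from pullback.lift_fst _ _ _,
      push_g_eq hc M φ]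
    refine (Category.assoc _ _ _).trans ((congrArg (_ ≫ ·) h1).trans ?_)
    exact Iso.hom_inv_id_assoc _ _
  · rw [Category.assoc, hγp, (M.push φ.hom).sq.w, (N.push φ.hom).sq.w]

include hc in
/-- A morphism of models of the same morphism becomes an isomorphism at a later stage. -/
theorem exists_isIso (M N : Model c f i) (γ : M.Z ⟶ N.Z) (hp : γ ≫ N.p = M.p) (hg : M.g ≫ γ = N.g) :
    ∃ (j : I) (a : j ⟶ i), IsIso (M.pushMap N γ hp a) := by
  haveI := M.compactSpace
  haveI := M.quasiSeparatedSpace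
  haveI := N.compactSpace
  haveI := N.quasiSeparatedSpace
  haveI := N.lfp
  haveI : LocallyOfFinitePresentation (γ ≫ N.p) := hp ▸ M.lfp
  haveI : LocallyOfFinitePresentation γ := Groth.Agent.S12442.result γ N.p
  haveI : QuasiCompact γ := quasiCompact_of_compactSpace γ
  let A := ofStage D c hc i
  let C := pb A N.p
  obtain ⟨φ, hφ⟩ := exists_at_isIso C γ (by
    show IsIso (pullback.snd γ (pullback.fst N.p (c.π.app i)))
    have s1 : IsPullback M.g (𝟙 X) γ N.g :=
      IsPullback.of_bot (by rw [Category.id_comp, hp]; exact M.sq) (by rw [hg, Category.id_comp]) N.sq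
    have s2 : IsPullback M.g N.sq.isoPullback.hom γ (pullback.fst N.p (c.π.app i)) :=
      s1.of_iso (Iso.refl _) (Iso.refl _) N.sq.isoPullback (Iso.refl _) (by simp) (by simp) (by simp) (by simp)
    rw [← s2.isoPullback_inv_snd]
    infer_instance)
  refine ⟨φ.left, φ.hom, ?_⟩
  haveI h' : IsIso (pullback.snd γ (N.pfst φ.hom)) := hφ
  rw [← (M.isPullback_pushMap N γ hp φ.hom).isoPullback_hom_snd]
  exact IsIso.comp_isIso' inferInstance h'

end DescFP
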